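import Groth.Agent.SGA3x.K388.SubDesc
import Groth.Agent.Sga3.H828.SubgrpObj
import Groth.Agent.SGA3x.K18.MTDesc
import Groth.Agent.Sga3B.SplitBc264

/-!
# fpqc descent of subgroups

* `exists_desc_grp`: descent of affine subgroups of `G ×_S S'` whose two inverse images coincide;
* `exists_iso_of_bc`: subobjects which coincide over `S'` coincide;
* `isImmersion_of_bc`: immersions descend.
-/

set_option autoImplicit false
set_option backward.isDefEq.respectTransparency false
set_option backward.isDefEq.respectTransparency.types false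
universe u
open CategoryTheory CategoryTheory.Limits MonoidalCategory CartesianMonoidalCategory MonObj GrpObj AlgebraicGeometry
  Opposite

namespace K388.SubDescGrp

open K388.SubDesc K7.Loc

variable {S S' : Scheme.{u}} (π : S' ⟶ S) (G : Over S) {H' : Over S'} (j' : H' ⟶ Red.bc π G)

/-- A morphism into a subgroup is a homomorphism if the composite is. -/
lemma isMonHom_of_comp {A B C : Over S} [GrpObj A] [GrpObj B] [GrpObj C] (f : A ⟶ B) (m : B ⟶ C) [IsMonHom m]
    [Mono m] (h : IsMonHom (f ≫ m)) : IsMonHom f := by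
  refine Groth.Agent.Sga3B.Pts.isMonHom_of_points _ fun X x y => ?_
  rw [← cancel_mono m, Category.assoc, MonObj.mul_comp, MonObj.mul_comp, Category.assoc, Category.assoc]

variable {π G j'}

/-- **fpqc descent of affine subgroups.** -/
theorem exists_desc_grp [GrpObj G] [GrpObj H'] [IsMonHom j'] [Mono j'] (hA : Agree π G j') [Flat π] [Surjective π]
    [IsAffineHom H'.hom]
    (hcov : ∀ V : S.Opens, IsAffineOpen V → ∃ W : S'.Opens, IsCompact (W : Set S') ∧
      π.base '' (W : Set S') = (V : Set S)) :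
    ∃ (H : Over S) (_ : GrpObj H) (j : H ⟶ G), IsMonHom j ∧ Mono j ∧ IsAffineHom H.hom ∧
      (∀ (T : Over S) (x : T ⟶ G), (∃ y, y ≫ j = x) ↔
        ∃ y : Red.bc π T ⟶ H', y ≫ j' = (Over.pullback π).map x) ∧
      ∃ φ : Red.bc π H ≅ H', IsMonHom φ.hom ∧ φ.hom ≫ j' = (Over.pullback π).map j := by
  obtain ⟨H, j, hj, haff, hpts, φ, hφ⟩ := exists_desc hA hcov
  have mul : ∀ (T : Over S) (x y : T ⟶ G), (Over.pullback π).map (x * y) =
      ((Over.pullback π).map x : Red.bc π T ⟶ Red.bc π G) * (Over.pullback π).map y := fun T x y =>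
    Functor.map_mul _ _ _
  obtain ⟨gH, hjm⟩ := Groth.Agent.Sga3.H828.SubgrpObj.exists_grpObj (H := G)
    (fun X =>
      { carrier := {x | ∃ y : Red.bc π X ⟶ H', y ≫ j' = (Over.pullback π).map x}
        mul_mem' := by
          rintro a b ⟨y, hy⟩ ⟨z, hz⟩
          exact ⟨y * z, by rw [MonObj.mul_comp, hy, hz, mul]⟩
        one_mem' := ⟨1, by rw [MonObj.one_comp]; exact (Functor.map_one _).symm⟩
        inv_mem' := by
          rintro a ⟨y, hy⟩
          refine ⟨y⁻¹, ?_⟩
          rw [GrpObj.inv_comp, hy]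
          exact (Functor.map_inv' (Over.pullback π) a).symm })
    (fun f x ⟨y, hy⟩ => ⟨(Over.pullback π).map f ≫ y, by rw [Category.assoc, hy, Functor.map_comp]⟩)
    j (fun X x => (hpts X x).symm)
  refine ⟨H, gH, j, hjm, hj, haff, hpts, φ, ?_, hφ⟩
  refine isMonHom_of_comp φ.hom j' ?_
  rw [hφ]
  infer_instance

/-- Two subobjects which coincide over an fpqc covering coincide. -/
theorem exists_iso_of_bc [Flat π] [Surjective π]
    (hcov : ∀ V : S.Opens, IsAffineOpen V → ∃ W : S'.Opens, IsCompact (W : Set S') ∧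
      π.base '' (W : Set S') = (V : Set S)) {H₁ H₂ : Over S} (j₁ : H₁ ⟶ G) (j₂ : H₂ ⟶ G) [Mono j₁] [Mono j₂]
    (φ : Red.bc π H₁ ≅ Red.bc π H₂) (hφ : φ.hom ≫ (Over.pullback π).map j₂ = (Over.pullback π).map j₁) :
    ∃ ψ : H₁ ≅ H₂, ψ.hom ≫ j₂ = j₁ := by
  -- one inclusion
  have key : ∀ {A B : Over S} (a : A ⟶ G) (b : B ⟶ G) (_ : Mono a) (_ : Mono b) (χ : Red.bc π A ⟶ Red.bc π B)
      (_ : χ ≫ (Over.pullback π).map b = (Over.pullback π).map a), ∃ ψ : A ⟶ B, ψ ≫ b = a := by
    intro A B a b ha hb χ hχ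
    have hm : Mono (pullback.fst a b) := inferInstance
    have hm' : Mono ((Over.pullback π).map (pullback.fst a b)) := inferInstance
    have hp : IsPullback ((Over.pullback π).map (pullback.fst a b)) ((Over.pullback π).map (pullback.snd a b))
        ((Over.pullback π).map a) ((Over.pullback π).map b) :=
      (IsPullback.of_hasPullback a b).map (Over.pullback π)
    let σ : Red.bc π A ⟶ Red.bc π (pullback a b) := hp.lift (𝟙 _) χ (by rw [Category.id_comp, hχ])
    have hσ : σ ≫ (Over.pullback π).map (pullback.fst a b) = 𝟙 _ := hp.lift_fst _ _ _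
    have hiso : IsIso ((Over.pullback π).map (pullback.fst a b)) :=
      ⟨σ, by rw [← cancel_mono ((Over.pullback π).map (pullback.fst a b)), Category.assoc, hσ, Category.comp_id,
        Category.id_comp], hσ⟩
    have h2 : (MorphismProperty.isomorphisms Scheme.{u}) (pullback.fst a b).left := by
      refine K8.FpqcCover.of_cover (P := MorphismProperty.isomorphisms Scheme.{u}) (pullback.fst a b) π hcov
        fun s' => ⟨⊤, trivial, Has.bc ?_ _⟩
      exact inferInstanceAs (IsIso ((Over.forget S').map ((Over.pullback π).map (pullback.fst a b))))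
    have h3 : IsIso (pullback.fst a b) := by
      have : IsIso ((Over.forget S).map (pullback.fst a b)) := h2
      exact isIso_of_reflects_iso _ (Over.forget S)
    exact ⟨inv (pullback.fst a b) ≫ pullback.snd a b, by
      rw [Category.assoc, ← pullback.condition, IsIso.inv_hom_id_assoc]⟩
  obtain ⟨u, hu⟩ := key j₁ j₂ inferInstance inferInstance φ.hom hφ
  obtain ⟨v, hv⟩ := key j₂ j₁ inferInstance inferInstance φ.inv (by rw [← hφ, Iso.inv_hom_id_assoc])
  exact ⟨⟨u, v, by rw [← cancel_mono j₁, Category.assoc, hv, hu, Category.id_comp],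
    by rw [← cancel_mono j₂, Category.assoc, hu, hv, Category.id_comp]⟩, hu⟩

/-- Quasi-compact immersions descend along fpqc coverings. -/
theorem isImmersion_of_bc [Flat π] [Surjective π]
    (hcov : ∀ V : S.Opens, IsAffineOpen V → ∃ W : S'.Opens, IsCompact (W : Set S') ∧
      π.base '' (W : Set S') = (V : Set S)) {H : Over S} (j : H ⟶ G)
    (h1 : IsImmersion ((Over.pullback π).map j).left) (h2 : QuasiCompact ((Over.pullback π).map j).left) :
    IsImmersion j.left := by
  have : MorphismProperty.DescendsAlong (@IsImmersion ⊓ @QuasiCompact : MorphismProperty Scheme.{u})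
      (@Surjective ⊓ @Flat ⊓ @QuasiCompact : MorphismProperty Scheme.{u}) :=
    Groth.Agent.Desc.ImmersionDescent.descendsAlong_qcImmersion
  have h3 : Has (@IsImmersion ⊓ @QuasiCompact : MorphismProperty Scheme.{u}) j π := ⟨h1, h2⟩
  exact (K8.FpqcCover.of_cover (P := (@IsImmersion ⊓ @QuasiCompact : MorphismProperty Scheme.{u})) j π hcov
    fun s' => ⟨⊤, trivial, h3.bc _⟩).1

end K388.SubDescGrp
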