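import Groth.Prelude.Def_Red
import Groth.Agent.AlgSp.K625.Fld

/-!
# Morphisms with connected geometric fibres

* `geometricallyConnected_of_geomPt`: if the geometric fibres `X ×_S Spec κ(s)^alg` are connected, then `f` is
  geometrically connected;
* `clopen_eq_top`: an open and closed subset of `X ×_S X` containing the diagonal is everything.
-/

set_option autoImplicit false
universe u
open CategoryTheory CategoryTheory.Limits AlgebraicGeometry

namespace K388.GeomConn

theorem geometricallyConnected_of_geomPt {X S : Scheme.{u}} (f : X ⟶ S)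
    (h : ∀ s : S, ConnectedSpace ↥(pullback f (Red.geomPt s))) : GeometricallyConnected f := by
  refine ⟨geometrically_iff_of_isClosedUnderIsomorphisms.mpr fun K _ y => ?_⟩
  obtain ⟨⟨s, φ⟩, rfl⟩ := (Scheme.SpecToEquivOfField _ _).symm.surjective y
  let _ : Algebra (S.residueField s) K := φ.hom.toAlgebra
  let ψ : AlgebraicClosure (S.residueField s) →ₐ[S.residueField s] AlgebraicClosure K := IsAlgClosed.lift
  let g : Spec (CommRingCat.of (AlgebraicClosure K)) ⟶ Spec (CommRingCat.of (AlgebraicClosure (S.residueField s))) :=
    Spec.map (CommRingCat.ofHom ψ.toRingHom)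
  let a : Spec (CommRingCat.of (AlgebraicClosure K)) ⟶ Spec (CommRingCat.of K) :=
    Spec.map (CommRingCat.ofHom (algebraMap K (AlgebraicClosure K)))
  have hg : GeometricallyConnected g := K625.Fld.geometricallyConnected_specMap ψ.toRingHom
  have hg' : UniversallyOpen g := K625.Fld.universallyOpen_specMap ψ.toRingHom
  have ha : Surjective a := K625.Fld.surjective_specMap _
  let y : Spec (CommRingCat.of K) ⟶ S := (Scheme.SpecToEquivOfField K S).symm ⟨s, φ⟩
  have hy : y = Spec.map φ ≫ S.fromSpecResidueField s := rfl
  have e : g ≫ Red.geomPt s = a ≫ y := by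
    rw [hy]
    change g ≫ Spec.map (CommRingCat.ofHom (algebraMap (S.residueField s) (AlgebraicClosure (S.residueField s)))) ≫
      S.fromSpecResidueField s = _
    rw [← Category.assoc, ← Category.assoc]
    congr 1
    simp only [g, a, ← Spec.map_comp]
    congr 1
    ext x
    change ψ (algebraMap _ _ x) = algebraMap K _ (algebraMap (S.residueField s) K x)
    rw [ψ.commutes]
    rfl
  have := h s
  have h1 : ConnectedSpace ↥(pullback (pullback.snd f (Red.geomPt s)) g) := inferInstance
  let q : pullback (pullback.snd f (Red.geomPt s)) g ⟶ pullback f y :=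
    pullback.lift (pullback.fst _ _ ≫ pullback.fst _ _) (pullback.snd _ _ ≫ a) (by
      rw [Category.assoc, Category.assoc, pullback.condition, ← e, pullback.condition_assoc])
  have hq : IsPullback q (pullback.snd _ _) (pullback.snd f y) a := by
    have h2 : IsPullback (pullback.fst (pullback.snd f (Red.geomPt s)) g ≫ pullback.fst f (Red.geomPt s))
        (pullback.snd _ _) f (g ≫ Red.geomPt s) :=
      (IsPullback.of_hasPullback (pullback.snd f (Red.geomPt s)) g).paste_horiz
        (IsPullback.of_hasPullback f (Red.geomPt s))
    refine IsPullback.of_right (h₁₂ := pullback.fst f y) (h₂₂ := y) (v₁₃ := f) ?_ (pullback.lift_snd _ _ _)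
      (IsPullback.of_hasPullback f y)
    have h3 : q ≫ pullback.fst f y = pullback.fst _ _ ≫ pullback.fst _ _ := pullback.lift_fst _ _ _
    rw [h3, ← e]
    exact h2
  have hqs : Surjective q := MorphismProperty.of_isPullback hq.flip ha
  exact q.surjective.connectedSpace q.continuous

/-- An open and closed subset of `X ×_S X` containing the diagonal is everything, for `X ⟶ S` with connected
geometric fibres. -/
theorem clopen_eq_top {X S : Scheme.{u}} (f : X ⟶ S) [GeometricallyConnected f] (U : (pullback f f).Opens)
    (hU : IsClosed (U : Set ↥(pullback f f))) (hd : ∀ x : X, pullback.diagonal f x ∈ U) : U = ⊤ := by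
  rw [eq_top_iff]
  intro z _
  have h1 : _root_.IsConnected ((pullback.fst f f) ⁻¹' {pullback.fst f f z}) :=
    (pullback.fst f f).isConnected_preimage_singleton _
  have h2 : pullback.diagonal f (pullback.fst f f z) ∈ (pullback.fst f f) ⁻¹' {pullback.fst f f z} := by
    change (pullback.fst f f) (pullback.diagonal f (pullback.fst f f z)) = _
    rw [← Scheme.Hom.comp_apply, pullback.diagonal_fst]
    rfl
  exact h1.isPreconnected.subset_isClopen ⟨hU, U.isOpen⟩ ⟨_, h2, hd _⟩ rfl

end K388.GeomConn
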