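import Groth.Agent.Sga3.H828.FpqcRep
import Groth.Agent.Sga1.PushFun
import Groth.Agent.Sga3B.BcPts
import Groth.Agent.SGA3x.K8.FpqcCover
import Groth.Agent.Desc.ImmersionDescent

/-!
# fpqc descent of affine subobjects

Let `π : S' ⟶ S` be an fpqc covering, `G` an `S`-scheme and `j' : H' ⟶ G ×_S S'` a monomorphism with `H'` affine over
`S'`, whose two inverse images over `S' ×_S S'` coincide (as subfunctors of `G`).  Then `H'` descends to `H ⟶ G`.

* `exists_desc`: existence, `H` affine over `S`, with the points of `H` described by `H'`;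
* `iso_of_bc`: two subobjects which coincide over `S'` coincide.
-/

set_option autoImplicit false
set_option backward.isDefEq.respectTransparency false
set_option backward.isDefEq.respectTransparency.types false
universe u
open CategoryTheory CategoryTheory.Limits AlgebraicGeometry Opposite

namespace K388.SubDesc

open Groth.Agent.Desc.SecFunctor Groth.Agent.Desc.SecPresheaf Groth.Agent.Desc.SecDescent
  Groth.Agent.Picfga.OverRep Groth.Agent.Desc.ZarGlue Groth.Agent.Sga3B.BcPts Groth.Agent.Sga1.PushFun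

variable {S S' : Scheme.{u}} (π : S' ⟶ S) (G : Over S) {H' : Over S'} (j' : H' ⟶ Red.bc π G)

/-- Points `x` of `G` together with a factorization of their base change through `j'`. -/
noncomputable def F : (Over S)ᵒᵖ ⥤ Type u where
  obj T := {p : (T.unop ⟶ G) × (Red.bc π T.unop ⟶ H') // p.2 ≫ j' = (Over.pullback π).map p.1}
  map g := ↾(fun p => ⟨(g.unop ≫ p.1.1, (Over.pullback π).map g.unop ≫ p.1.2), by
    rw [Category.assoc, p.2, Functor.map_comp]⟩)
  map_id T := by
    apply ConcreteCategory.hom_ext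
    intro φ
    apply Subtype.ext
    simp
  map_comp a b := by
    apply ConcreteCategory.hom_ext
    intro φ
    apply Subtype.ext
    simp

variable {π G j'}

lemma map_fst {T T' : Over S} (g : T' ⟶ T) (p : (F π G j').obj (op T)) :
    ((F π G j').map g.op p).1.1 = g ≫ p.1.1 := rfl

lemma map_snd {T T' : Over S} (g : T' ⟶ T) (p : (F π G j').obj (op T)) :
    ((F π G j').map g.op p).1.2 = (Over.pullback π).map g ≫ p.1.2 := rfl

lemma F_ext {T : Over S} {p q : (F π G j').obj (op T)} (h1 : p.1.1 = q.1.1) (h2 : p.1.2 = q.1.2) : p = q :=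
  Subtype.ext (Prod.ext h1 h2)

variable (π G j')

theorem isZarSheaf_F : IsZarSheaf (F π G j') := by
  intro T 𝒰 x hx
  obtain ⟨a, ha, ha'⟩ := isZarSheaf_yoneda G T 𝒰 (fun i => (x i).1.1) (fun i k W p q e => by
    have := hx i k W p q e
    exact congrArg (fun z => z.1.1) this)
  have hpush := isZarSheaf_push π (isZarSheaf_yoneda H')
  have hpush' := isZarSheaf_push π (isZarSheaf_yoneda (Red.bc π G))
  obtain ⟨b, hb, hb'⟩ := hpush T 𝒰 (fun i => (x i).1.2) (fun i k W p q e => by
    have := hx i k W p q e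
    exact congrArg (fun z => z.1.2) this)
  have ha1 : ∀ i, 𝒰.j i ≫ a = (x i).1.1 := ha
  have hb1 : ∀ i, (Over.pullback π).map (𝒰.j i) ≫ b = (x i).1.2 := hb
  have hab : b ≫ j' = (Over.pullback π).map a := by
    refine hpush'.ext_cover T 𝒰 _ _ fun i => ?_
    change (Over.pullback π).map (𝒰.j i) ≫ b ≫ j' = (Over.pullback π).map (𝒰.j i) ≫ (Over.pullback π).map a
    rw [← Category.assoc, hb1, ← Functor.map_comp, ha1]
    exact (x i).2
  refine ⟨⟨(a, b), hab⟩, fun i => F_ext (ha1 i) (hb1 i), fun y hy => F_ext ?_ ?_⟩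
  · exact ha' y.1.1 fun i => congrArg (fun z => z.1.1) (hy i)
  · exact hb' y.1.2 fun i => congrArg (fun z => z.1.2) (hy i)

theorem isDesc_F {T' T : Over S} (g : T' ⟶ T) (h1 : Flat g.left) (h2 : Surjective g.left)
    (h3 : QuasiCompact g.left) : IsDesc (F π G j') g := by
  have hG : IsDesc (yoneda.obj G) g := isDesc_yoneda G g
  have h1' : Flat ((Over.pullback π).map g).left :=
    MorphismProperty.of_isPullback (isPullback_map_left π g).flip h1
  have h2' : Surjective ((Over.pullback π).map g).left :=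
    MorphismProperty.of_isPullback (isPullback_map_left π g).flip h2
  have h3' : QuasiCompact ((Over.pullback π).map g).left :=
    MorphismProperty.of_isPullback (isPullback_map_left π g).flip h3
  have hH : IsDesc (push π (yoneda.obj H')) g := isDesc_push π g (isDesc_yoneda H' _)
  have hB : IsDesc (push π (yoneda.obj (Red.bc π G))) g := isDesc_push π g (isDesc_yoneda (Red.bc π G) _)
  constructor
  · intro p q h
    exact F_ext (hG.inj _ _ (congrArg (fun z => z.1.1) h)) (hH.inj _ _ (congrArg (fun z => z.1.2) h))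
  · intro p hp
    obtain ⟨a, ha⟩ := hG.glue p.1.1 (fun Z z₀ z₁ e => congrArg (fun z => z.1.1) (hp Z z₀ z₁ e))
    obtain ⟨b, hb⟩ := hH.glue p.1.2 (fun Z z₀ z₁ e => congrArg (fun z => z.1.2) (hp Z z₀ z₁ e))
    have ha1 : g ≫ a = p.1.1 := ha
    have hb1 : (Over.pullback π).map g ≫ b = p.1.2 := hb
    have hab : b ≫ j' = (Over.pullback π).map a := by
      refine hB.inj _ _ ?_
      change (Over.pullback π).map g ≫ b ≫ j' = (Over.pullback π).map g ≫ (Over.pullback π).map a
      rw [← Category.assoc, hb1, ← Functor.map_comp, ha1]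
      exact p.2
    exact ⟨⟨(a, b), hab⟩, F_ext ha1 hb1⟩

/-- The two inverse images of `H'` coincide: every point of `G` which lies in `H'` through one morphism to `S'` lies in
`H'` through every other morphism to `S'`. -/
def Agree : Prop := ∀ (T : Over S') (z : T ⟶ H') (q : T.left ⟶ S') (_ : q ≫ π = T.hom ≫ π),
  ∃ z' : Over.mk q ⟶ H', z'.left ≫ j'.left ≫ pullback.fst G.hom π = z.left ≫ j'.left ≫ pullback.fst G.hom π

variable {π G j'}

/-- Under `Agree`, the base change of a point of `G` lying in `H'` factors through `H'`. -/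
theorem Agree.factor (hA : Agree π G j') {T : Over S'} (z : T ⟶ H') :
    ∃ y : Red.bc π ((Over.map π).obj T) ⟶ H', y ≫ j' = (Over.pullback π).map ((bcEquiv π T G).symm (z ≫ j')) := by
  let B := Red.bc π ((Over.map π).obj T)
  let p : B.left ⟶ T.left := pullback.fst (T.hom ≫ π) π
  have hp : B.hom ≫ π = (p ≫ T.hom) ≫ π := by
    rw [Category.assoc]
    exact (pullback.condition).symm
  let T₁ : Over S' := Over.mk (p ≫ T.hom)
  let t : T₁ ⟶ T := Over.homMk p rfl
  obtain ⟨z', hz'⟩ := hA T₁ (t ≫ z) B.hom hp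
  let i : B ⟶ Over.mk B.hom := Over.homMk (𝟙 _) (Category.id_comp _)
  refine ⟨i ≫ z', ?_⟩
  ext1
  have e1 : (i ≫ z').left = z'.left := by
    change 𝟙 _ ≫ z'.left = z'.left
    exact Category.id_comp _
  apply pullback.hom_ext
  · have h1 : ((Over.pullback π).map ((bcEquiv π T G).symm (z ≫ j'))).left ≫ pullback.fst G.hom π =
        p ≫ ((bcEquiv π T G).symm (z ≫ j')).left := pullback.lift_fst _ _ _
    have h2 : ((bcEquiv π T G).symm (z ≫ j')).left = z.left ≫ j'.left ≫ pullback.fst G.hom π := by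
      have := (Over.mapPullbackAdj π).homEquiv_counit (X := T) (Y := G) (g := z ≫ j')
      change (((Over.mapPullbackAdj π).homEquiv T G).symm (z ≫ j')).left = _
      rw [this]
      simp
    rw [h1, h2]
    change ((i ≫ z').left ≫ j'.left) ≫ pullback.fst G.hom π = _
    rw [e1, Category.assoc, hz']
    change (p ≫ z.left) ≫ _ = _
    rw [Category.assoc]
  · have h1 : ((Over.pullback π).map ((bcEquiv π T G).symm (z ≫ j'))).left ≫ pullback.snd G.hom π =
        B.hom := pullback.lift_snd _ _ _
    rw [h1]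
    change ((i ≫ z').left ≫ j'.left) ≫ (Red.bc π G).hom = _
    rw [e1, Category.assoc, Over.w j', Over.w z']
    rfl

/-- `F` is represented over `S'` by `H'`. -/
theorem exists_repr [Mono j'] (hA : Agree π G j') : Nonempty ((restr π (F π G j')).RepresentableBy H') := by
  refine ⟨{ homEquiv := fun {T} =>
      { toFun := fun z => ⟨((bcEquiv π T G).symm (z ≫ j'), (hA.factor z).choose), (hA.factor z).choose_spec⟩
        invFun := fun p => bcEquiv π T _ (𝟙 _) ≫ p.1.2
        left_inv := fun z => ?_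
        right_inv := fun p => ?_ }
            homEquiv_comp := ?_ }⟩
  · rw [← cancel_mono j', Category.assoc]
    dsimp only
    rw [(hA.factor z).choose_spec, ← bcEquiv_comp, Category.id_comp, Equiv.apply_symm_apply]
  · have h0 : (bcEquiv π T _ (𝟙 _) ≫ p.1.2) ≫ j' = bcEquiv π T G p.1.1 := by
      rw [Category.assoc, p.2, ← bcEquiv_comp, Category.id_comp]
    have h1 : (bcEquiv π T G).symm ((bcEquiv π T _ (𝟙 _) ≫ p.1.2) ≫ j') = p.1.1 := by
      rw [h0, Equiv.symm_apply_apply]
    refine F_ext h1 ?_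
    rw [← cancel_mono j']
    refine (hA.factor _).choose_spec.trans ?_
    rw [h1]
    exact p.2.symm
  · intro T T' f g
    have h1 : (bcEquiv π T G).symm ((f ≫ g) ≫ j') = (Over.map π).map f ≫ (bcEquiv π T' G).symm (g ≫ j') := by
      rw [Category.assoc, comp_bcEquiv_symm]
    refine F_ext h1 ?_
    rw [← cancel_mono j']
    refine (hA.factor _).choose_spec.trans ?_
    change _ = ((Over.pullback π).map ((Over.map π).map f) ≫ (hA.factor g).choose) ≫ j'
    rw [h1, Category.assoc, (hA.factor g).choose_spec, Functor.map_comp]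

/-- **fpqc descent of affine subobjects.** -/
theorem exists_desc [Mono j'] (hA : Agree π G j') [Flat π] [Surjective π] [IsAffineHom H'.hom]
    (hcov : ∀ V : S.Opens, IsAffineOpen V → ∃ W : S'.Opens, IsCompact (W : Set S') ∧
      π.base '' (W : Set S') = (V : Set S)) :
    ∃ (H : Over S) (j : H ⟶ G), Mono j ∧ IsAffineHom H.hom ∧
      (∀ (T : Over S) (x : T ⟶ G), (∃ y, y ≫ j = x) ↔
        ∃ y : Red.bc π T ⟶ H', y ≫ j' = (Over.pullback π).map x) ∧
      ∃ φ : Red.bc π H ≅ H', φ.hom ≫ j' = (Over.pullback π).map j := by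
  obtain ⟨rH'⟩ := exists_repr hA
  obtain ⟨H, hH, ⟨r⟩⟩ := Groth.Agent.Sga3.H828.FpqcRep.exists_rep_of_fpqcCover (F π G j') (isZarSheaf_F π G j')
    (fun g h1 h2 h3 => isDesc_F π G j' g h1 h2 h3) @IsAffineHom π hcov (fun s' => by
      refine ⟨⊤, trivial, (Over.pullback (⊤ : S'.Opens).ι).obj H', ?_, ?_, ?_⟩
      · exact MorphismProperty.pullback_snd (P := @IsAffineHom) _ _ inferInstance
      · have : IsAffineHom ((Over.pullback (⊤ : S'.Opens).ι).obj H').hom :=
          MorphismProperty.pullback_snd (P := @IsAffineHom) _ _ inferInstance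
        refine ⟨inferInstance, fun V hV => ?_⟩
        have : IsAffine (((Over.pullback (⊤ : S'.Opens).ι).obj H').hom ⁻¹ᵁ V : Scheme.{u}) := hV.preimage _
        infer_instance
      · exact ⟨(pullRep (⊤ : S'.Opens).ι rH').ofIso (restrCompIso rfl (F π G j'))⟩)
  let u : (F π G j').obj (op H) := r.homEquiv (𝟙 H)
  let j : H ⟶ G := u.1.1
  let y₀ : Red.bc π H ⟶ H' := u.1.2
  have hy₀ : y₀ ≫ j' = (Over.pullback π).map j := u.2
  have hr : ∀ {T : Over S} (h : T ⟶ H), r.homEquiv h = (F π G j').map h.op u := fun h => by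
    have := r.homEquiv_comp h (𝟙 H)
    rwa [Category.comp_id] at this
  have hr1 : ∀ {T : Over S} (h : T ⟶ H), (r.homEquiv h).1.1 = h ≫ j := fun h => by
    rw [hr]; rfl
  have hmono : Mono j := by
    constructor
    intro T a b hab
    apply r.homEquiv.injective
    have h1 : (r.homEquiv a).1.1 = (r.homEquiv b).1.1 := by rw [hr1, hr1, hab]
    refine F_ext h1 ?_
    rw [← cancel_mono j', (r.homEquiv a).2, (r.homEquiv b).2, h1]
  have hpts : ∀ (T : Over S) (x : T ⟶ G), (∃ y, y ≫ j = x) ↔
      ∃ y : Red.bc π T ⟶ H', y ≫ j' = (Over.pullback π).map x := by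
    intro T x
    constructor
    · rintro ⟨y, rfl⟩
      exact ⟨(Over.pullback π).map y ≫ y₀, by rw [Category.assoc, hy₀, Functor.map_comp]⟩
    · rintro ⟨y, hy⟩
      let p : (F π G j').obj (op T) := ⟨(x, y), hy⟩
      exact ⟨r.homEquiv.symm p, by rw [← hr1, Equiv.apply_symm_apply]⟩
  have hmono' : Mono ((Over.pullback π).map j) := inferInstance
  obtain ⟨y, hy⟩ := hA.factor (𝟙 H')
  obtain ⟨k, hk⟩ := (hpts _ _).2 ⟨y, hy⟩
  have hk' : bcEquiv π H' H k ≫ (Over.pullback π).map j = j' := by
    rw [← bcEquiv_comp, hk, Category.id_comp, Equiv.apply_symm_apply]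
  refine ⟨H, j, hmono, hH, hpts, ⟨y₀, bcEquiv π H' H k, ?_, ?_⟩, hy₀⟩
  · rw [← cancel_mono ((Over.pullback π).map j), Category.assoc, hk', hy₀, Category.id_comp]
  · rw [← cancel_mono j', Category.assoc, hy₀, hk', Category.id_comp]

end K388.SubDesc
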